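import Groth.Agent.ModDescLib.Core
import Groth.Agent.FlatLib.SectionsFP
import Groth.Agent.RichLib.LimitBaseChange

/-! Finitely presented quasi-coherent modules over a limit of noetherian schemes descend. -/

set_option autoImplicit false

universe u

open CategoryTheory CategoryTheory.Limits AlgebraicGeometry TopologicalSpace Opposite

noncomputable section

namespace ModDescLib

theorem finitePresentation_of_le {X : Scheme.{u}} {M : X.Modules} [Coh.IsQCoh M] {O : X.Opens}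
    (P : (M.restrict O.ι).Presentation) [P.IsFinite] {V : X.Opens} (hV : IsAffineOpen V) (hVO : V ≤ O) :
    Module.FinitePresentation Γ(X, V) Γ(M, V) := by
  have key : ∀ W₀ : (O : Scheme.{u}).Opens, IsAffineOpen W₀ →
      Module.FinitePresentation Γ(X, O.ι ''ᵁ W₀) Γ(M, O.ι ''ᵁ W₀) := by
    intro W₀ hW₀
    haveI := FlatLib.finitePresentation_of_presentation P hW₀
    exact FlatLib.finitePresentation_semilinear (A := Γ((O : Scheme.{u}), W₀)) (M := Γ(M.restrict O.ι, W₀))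
      (O.ι.appIso W₀).inv.hom
      (O.ι.appIso W₀).commRingCatIsoToRingEquiv.symm.surjective
      (M.restrictAppIso O.ι W₀).addCommGroupIsoToAddEquiv
      fun r m ↦ Scheme.Modules.smul_restrictAppIso_hom_apply O.ι M W₀ r m
  have e : O.ι ''ᵁ (O.ι ⁻¹ᵁ V) = V := by
    rw [Scheme.Hom.image_preimage_eq_opensRange_inf, Scheme.Opens.opensRange_ι, inf_eq_right]
    exact hVO
  exact e ▸ key _ (hV.preimage_of_isOpenImmersion O.ι (by rwa [Scheme.Opens.opensRange_ι]))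

variable {X Xj Xi : Scheme.{u}}

theorem exists_coh_of_relations' (p : X ⟶ Xj) (u : Xj ⟶ Xi) (q : X ⟶ Xi) (e : p ≫ u = q) [IsAffineHom p]
    [IsAffineHom u] (F : X.Modules)
    [Coh.IsQCoh F] (G₀ : Xi.Modules) [Coh.IsQCoh G₀] (hG₀ : CohB1.IsFT G₀)
    (θ : G₀ ⟶ (Scheme.Modules.pushforward q).obj F) {K : Type u} (U : K → Xi.Opens)
    (hU : ∀ k, IsAffineOpen (U k)) (hcov : ⨆ k, q ⁻¹ᵁ U k = ⊤)
    (L : K → Type u) [∀ k, Fintype (L k)] (m : ∀ k, L k → Γ(G₀, U k))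
    (hm : ∀ k, Submodule.span Γ(Xi, U k) (Set.range (m k)) = ⊤)
    (hgen : ∀ k, Submodule.span Γ(X, q ⁻¹ᵁ U k)
      (Set.range fun l => (show Γ(F, q ⁻¹ᵁ U k) from θ.app (U k) (m k l))) = ⊤)
    (hrel : ∀ k, ∃ (T : Type u) (_ : Fintype T) (b : T → L k → Γ(X, q ⁻¹ᵁ U k)),
      (∀ t l, ∃ a : Γ(Xj, u ⁻¹ᵁ U k), p.appLE (u ⁻¹ᵁ U k) (q ⁻¹ᵁ U k) (by rw [← e, Scheme.Hom.comp_preimage]) a = b t l) ∧
      (∀ t, ∑ l, b t l • (show Γ(F, q ⁻¹ᵁ U k) from θ.app (U k) (m k l)) = 0) ∧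
      ∀ v : L k → Γ(X, q ⁻¹ᵁ U k),
        ∑ l, v l • (show Γ(F, q ⁻¹ᵁ U k) from θ.app (U k) (m k l)) = 0 →
          ∃ c : T → Γ(X, q ⁻¹ᵁ U k), v = fun l => ∑ t, c t * b t l) :
    ∃ G : Xj.Modules, Coh.IsQCoh G ∧ CohB1.IsFT G ∧ Nonempty ((Scheme.Modules.pullback p).obj G ≅ F) := by
  subst e
  refine exists_coh_of_relations p u F G₀ hG₀ θ U hU hcov L m hm hgen fun k => ?_
  obtain ⟨T, hT, b, hb, hz, hc⟩ := hrel k
  choose a ha using hb
  have ha' : ∀ t l, p.app (u ⁻¹ᵁ U k) (a t l) = b t l := fun t l => by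
    rw [← ha t l]; exact congr($(p.app_eq_appLE (U := u ⁻¹ᵁ U k)) (a t l))
  refine ⟨T, hT, a, fun t => ?_, fun v hv => ?_⟩
  · simp only [ha']; exact hz t
  · simp only [ha']; exact hc v hv

variable {I : Type u} [SmallCategory I] [IsCofiltered I] {D : I ⥤ Scheme.{u}} {c : Cone D} (hc : IsLimit c)
  [∀ (i j : I) (f : i ⟶ j), IsAffineHom (D.map f)]

theorem appTop_resLE_topIso {X Y : Scheme.{u}} (f : X ⟶ Y) (V : Y.Opens) (U : X.Opens) (e : U ≤ f ⁻¹ᵁ V)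
    (t : Γ(V.toScheme, ⊤)) :
    U.topIso.hom ((f.resLE V U e).appTop t) = f.appLE V U e (V.topIso.hom t) := by
  rw [← CommRingCat.comp_apply, ← CommRingCat.comp_apply]
  congr! 2
  simp [Scheme.Hom.resLE_appLE, Scheme.Hom.app_eq_appLE, ← Functor.map_comp]
  erw [Scheme.Hom.appLE_map, Scheme.Hom.map_appLE]

omit [IsCofiltered I] [∀ (i j : I) (f : i ⟶ j), IsAffineHom (D.map f)] in
theorem preimage_le_stage {i : I} (φ : Over i) (V : (D.obj i).Opens) :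
    c.π.app i ⁻¹ᵁ V ≤ c.π.app φ.left ⁻¹ᵁ (D.map φ.hom ⁻¹ᵁ V) := by
  rw [← Scheme.Hom.comp_preimage, c.w]

omit [IsCofiltered I] [∀ (i j : I) (f : i ⟶ j), IsAffineHom (D.map f)] in
theorem preimage_le_map {i : I} {φ ψ : Over i} (f : ψ ⟶ φ) (V : (D.obj i).Opens) :
    D.map ψ.hom ⁻¹ᵁ V ≤ D.map f.left ⁻¹ᵁ (D.map φ.hom ⁻¹ᵁ V) := by
  rw [← Scheme.Hom.comp_preimage, ← D.map_comp, Over.w f]

include hc in
theorem exists_lift_section {i : I} {U : (D.obj i).Opens} (hU : IsAffineOpen U) (b : Γ(c.pt, c.π.app i ⁻¹ᵁ U)) :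
    ∃ (φ : Over i) (a : Γ(D.obj φ.left, D.map φ.hom ⁻¹ᵁ U)),
      (c.π.app φ.left).appLE (D.map φ.hom ⁻¹ᵁ U) (c.π.app i ⁻¹ᵁ U)
        (by rw [← Scheme.Hom.comp_preimage, c.w]) a = b := by
  haveI : ∀ φ : Over i, IsAffine ((opensDiagram D i U).obj φ) := fun φ => hU.preimage (D.map φ.hom)
  obtain ⟨φ, t, ht⟩ := exists_appTop_π_eq_of_isAffine_of_isLimit _ _ (isLimitOpensCone D c hc i U)
    ((c.π.app i ⁻¹ᵁ U).topIso.inv b)
  refine ⟨φ, (D.map φ.hom ⁻¹ᵁ U).topIso.hom t, ?_⟩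
  have e2 : (c.π.app i ⁻¹ᵁ U).topIso.hom ((c.π.app i ⁻¹ᵁ U).topIso.inv b) = b := by
    rw [← CommRingCat.comp_apply, Iso.inv_hom_id]; rfl
  exact (appTop_resLE_topIso _ _ _ _ t).symm.trans ((congrArg (c.π.app i ⁻¹ᵁ U).topIso.hom ht).trans e2)

variable [∀ i, IsNoetherian (D.obj i)]

include hc in
/-- Descent of a finitely presented quasi-coherent module. -/
theorem exists_coh_pullback (F : c.pt.Modules) [Coh.IsQCoh F]
    (hF : ∀ x : c.pt, ∃ (O : c.pt.Opens) (P : (F.restrict O.ι).Presentation), x ∈ O ∧ P.IsFinite) :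
    ∃ (j : I) (G : (D.obj j).Modules), Coh.IsCoh G ∧ Nonempty ((Scheme.Modules.pullback (c.π.app j)).obj G ≅ F) := by
  classical
  obtain ⟨i₀⟩ := IsCofiltered.nonempty (C := I)
  haveI := isAffineHom_π_app D c hc i₀
  haveI : CompactSpace c.pt := QuasiCompact.compactSpace_of_compactSpace (c.π.app i₀)
  have hx : ∀ x : c.pt, ∃ (i : I) (W : (D.obj i).Opens), IsAffineOpen W ∧ x ∈ c.π.app i ⁻¹ᵁ W ∧
      ∃ (O : c.pt.Opens) (P : (F.restrict O.ι).Presentation), c.π.app i ⁻¹ᵁ W ≤ O ∧ P.IsFinite := by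
    intro x
    obtain ⟨O, P, hxO, hP⟩ := hF x
    obtain ⟨_, ⟨_, ⟨i, W, hW, rfl⟩, rfl⟩, hxW, hWO⟩ :=
      (isBasis_preimage_isAffineOpen D c hc).exists_subset_of_mem_open hxO O.2
    exact ⟨i, W, hW, hxW, O, P, hWO, hP⟩
  choose ix W hW hxW O P hWO hP using hx
  obtain ⟨s, hs⟩ := isCompact_univ.elim_finite_subcover (fun x => ((c.π.app (ix x) ⁻¹ᵁ W x : c.pt.Opens) : Set c.pt))
    (fun x => (c.π.app (ix x) ⁻¹ᵁ W x).2) (fun x _ => Set.mem_iUnion.mpr ⟨x, hxW x⟩)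
  obtain ⟨i, hi⟩ := IsCofiltered.inf_objs_exists (s.image ix)
  let K : Type u := {x // x ∈ s}
  let a : ∀ k : K, i ⟶ ix k.1 := fun k => (hi (Finset.mem_image_of_mem _ k.2)).some
  let U : K → (D.obj i).Opens := fun k => D.map (a k) ⁻¹ᵁ W k.1
  have hU : ∀ k, IsAffineOpen (U k) := fun k => (hW k.1).preimage _
  have hUe : ∀ k, c.π.app i ⁻¹ᵁ U k = c.π.app (ix k.1) ⁻¹ᵁ W k.1 := fun k => by
    rw [← Scheme.Hom.comp_preimage, c.w]
  have hcov : ⨆ k, c.π.app i ⁻¹ᵁ U k = ⊤ := top_le_iff.mp fun x _ => by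
    obtain ⟨y, hy, hxy⟩ := Set.mem_iUnion₂.mp (hs (Set.mem_univ x))
    exact Opens.mem_iSup.mpr ⟨⟨y, hy⟩, (hUe ⟨y, hy⟩).ge hxy⟩
  haveI := isAffineHom_π_app D c hc i
  have hV : ∀ k, IsAffineOpen (c.π.app i ⁻¹ᵁ U k) := fun k => (hU k).preimage _
  have hFP : ∀ k, Module.FinitePresentation Γ(c.pt, c.π.app i ⁻¹ᵁ U k) Γ(F, c.π.app i ⁻¹ᵁ U k) := fun k => by
    haveI := hP k.1
    exact finitePresentation_of_le (P k.1) (hV k) ((hUe k).le.trans (hWO k.1))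
  choose n g hg using fun k : K =>
    haveI := hFP k
    Module.Finite.exists_fin (R := Γ(c.pt, c.π.app i ⁻¹ᵁ U k)) (M := Γ(F, c.π.app i ⁻¹ᵁ U k))
  haveI := QCohLib.isQCoh_pushforward (c.π.app i) F
  obtain ⟨G₀, θ, -, hG₀q, hG₀, hθ⟩ := QCohLib.exists_ft_through_finset
    (K := (Scheme.Modules.pushforward (c.π.app i)).obj F)
    (Finset.univ : Finset (Σ k : K, ULift.{u} (Fin (n k)))) (fun kl => U kl.1) (fun kl => hU kl.1)
    (fun kl => g kl.1 kl.2.down)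
  haveI := hG₀q
  choose g' hg' using fun kl => hθ kl (Finset.mem_univ _)
  haveI hfin : ∀ k, Module.Finite Γ(D.obj i, U k) Γ(G₀, U k) := fun k => QCohLib.finite_of_isFT hG₀ (hU k)
  choose n' r hr using fun k : K => Module.Finite.exists_fin (R := Γ(D.obj i, U k)) (M := Γ(G₀, U k))
  let L : K → Type u := fun k => ULift.{u} (Fin (n k)) ⊕ ULift.{u} (Fin (n' k))
  let m : ∀ k, L k → Γ(G₀, U k) := fun k => Sum.elim (fun l => g' ⟨k, l⟩) (fun l => r k l.down)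
  have hm : ∀ k, Submodule.span Γ(D.obj i, U k) (Set.range (m k)) = ⊤ := fun k => top_le_iff.mp <| by
    rw [← hr k]
    exact Submodule.span_mono (by rintro _ ⟨l, rfl⟩; exact ⟨Sum.inr ⟨l⟩, rfl⟩)
  let sec : ∀ k, L k → Γ(F, c.π.app i ⁻¹ᵁ U k) := fun k l => θ.app (U k) (m k l)
  have hgen : ∀ k, Submodule.span Γ(c.pt, c.π.app i ⁻¹ᵁ U k) (Set.range (sec k)) = ⊤ := fun k => top_le_iff.mp <| by
    rw [← hg k]
    exact Submodule.span_mono (by rintro _ ⟨l, rfl⟩; exact ⟨Sum.inl ⟨l⟩, hg' ⟨k, ⟨l⟩⟩⟩)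
  have hker : ∀ k, ∃ (N : ℕ) (b : Fin N → L k → Γ(c.pt, c.π.app i ⁻¹ᵁ U k)),
      (∀ t, ∑ l, b t l • sec k l = 0) ∧ ∀ v : L k → Γ(c.pt, c.π.app i ⁻¹ᵁ U k), ∑ l, v l • sec k l = 0 →
        ∃ w : Fin N → Γ(c.pt, c.π.app i ⁻¹ᵁ U k), v = fun l => ∑ t, w t * b t l := by
    intro k
    haveI := hFP k
    let f := Fintype.linearCombination Γ(c.pt, c.π.app i ⁻¹ᵁ U k) (sec k)
    have hf : Function.Surjective f := by
      rw [← LinearMap.range_eq_top, Fintype.range_linearCombination]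
      exact hgen k
    obtain ⟨N, b, hb⟩ := Submodule.fg_iff_exists_fin_generating_family.mp (Module.FinitePresentation.fg_ker f hf)
    refine ⟨N, b, fun t => ?_, fun v hv => ?_⟩
    · have : b t ∈ LinearMap.ker f := hb ▸ Submodule.subset_span ⟨t, rfl⟩
      exact this
    · have : v ∈ Submodule.span _ (Set.range b) := hb.symm ▸ (show v ∈ LinearMap.ker f from hv)
      obtain ⟨w, hw⟩ := (Submodule.mem_span_range_iff_exists_fun _).mp this
      exact ⟨w, funext fun l => by rw [← hw]; simp⟩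
  choose N b hb0 hb using hker
  obtain ⟨φ, hφ⟩ := RichLib.LimBC.exists_stage (I := Over i) (ι := Σ k : K, ULift.{u} (Fin (N k)) × L k)
    (fun x φ => ∃ a : Γ(D.obj φ.left, D.map φ.hom ⁻¹ᵁ U x.1),
      (c.π.app φ.left).appLE (D.map φ.hom ⁻¹ᵁ U x.1) (c.π.app i ⁻¹ᵁ U x.1)
        (preimage_le_stage φ (U x.1)) a = b x.1 x.2.1.down x.2.2)
    (fun x φ ψ f ⟨a, ha⟩ => ⟨(D.map (Over.Hom.left f)).appLE (D.map φ.hom ⁻¹ᵁ U x.1) (D.map ψ.hom ⁻¹ᵁ U x.1)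
      (preimage_le_map f (U x.1)) a, by
        rw [← CommRingCat.comp_apply, Scheme.Hom.appLE_comp_appLE]
        simp only [c.w]
        exact ha⟩)
    (fun x => exists_lift_section hc (hU x.1) _)
  haveI := isAffineHom_π_app D c hc φ.left
  obtain ⟨G, hG1, hG2, hG⟩ := exists_coh_of_relations' (c.π.app φ.left) (D.map φ.hom) (c.π.app i) (c.w φ.hom) F G₀ hG₀
    θ U hU hcov L m hm hgen fun k =>
      ⟨ULift.{u} (Fin (N k)), inferInstance, fun t => b k t.down, fun t l => hφ ⟨k, t, l⟩, fun t => hb0 k t.down,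
        fun v hv => by
          obtain ⟨w, hw⟩ := hb k v hv
          refine ⟨fun t => w t.down, hw.trans (funext fun l => ?_)⟩
          exact (Equiv.sum_comp Equiv.ulift (fun t => w t * b k t l)).symm⟩
  exact ⟨φ.left, G, ⟨hG1, hG2⟩, hG⟩

end ModDescLib
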