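import Groth.Agent.KFlatLib.AffinePull
import Groth.Agent.QCohLib.FTCrit
import Groth.Agent.QCohLib.Push
import Groth.Agent.GrTildeLib.IsoCrit
import Groth.Prelude.Def_CohB1

/-! A finitely presented module descends to a stage where finitely many relations hold. -/

set_option autoImplicit false

universe u

open CategoryTheory CategoryTheory.Limits AlgebraicGeometry TopologicalSpace Opposite

noncomputable section

namespace ModDescLib

variable {X Y : Scheme.{u}}

/-- Pullbacks of generators generate the sections of the pullback. -/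
theorem span_puSec (g : X ⟶ Y) [IsAffineHom g] (M : Y.Modules) [Coh.IsQCoh M] {U : Y.Opens} (hU : IsAffineOpen U)
    {L : Type u} (m : L → Γ(M, U)) (hm : Submodule.span Γ(Y, U) (Set.range m) = ⊤) :
    Submodule.span Γ(X, g ⁻¹ᵁ U) (Set.range fun l => KFlatLib.puSec g (m l)) = ⊤ := by
  letI : Algebra Γ(Y, U) Γ(X, g ⁻¹ᵁ U) := (g.app U).hom.toAlgebra
  letI : Module Γ(Y, U) Γ(KFlatLib.pb g M, g ⁻¹ᵁ U) := Module.compHom _ (g.app U).hom
  haveI : IsScalarTower Γ(Y, U) Γ(X, g ⁻¹ᵁ U) Γ(KFlatLib.pb g M, g ⁻¹ᵁ U) :=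
    IsScalarTower.of_algebraMap_smul fun _ _ => rfl
  have hres : ∀ x : Γ(KFlatLib.pb g M, g ⁻¹ᵁ U), (KFlatLib.pb g M).presheaf.map (homOfLE (le_refl (g ⁻¹ᵁ U))).op x = x :=
    fun x => by simp
  let ψ : Γ(M, U) →ₗ[Γ(Y, U)] Γ(KFlatLib.pb g M, g ⁻¹ᵁ U) :=
    { toFun := fun x => KFlatLib.puSec g x
      map_add' := fun a b => map_add (((Scheme.Modules.pullbackPushforwardAdjunction g).unit.app M).app U).hom a b
      map_smul' := fun r x => KFlatLib.puSec_smul g r x }
  have h := KFlatLib.isBaseChange_puSec g M hU (hU.preimage g) le_rfl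
    (fun r => congr($(g.app_eq_appLE (U := U)) r)) ψ (fun x => (hres _).symm)
  refine eq_top_iff.mpr fun z hz' => ?_
  clear hz'
  induction z using h.inductionOn with
  | zero => exact zero_mem _
  | tmul x =>
    have hx : x ∈ Submodule.span Γ(Y, U) (Set.range m) := hm ▸ Submodule.mem_top
    induction hx using Submodule.span_induction with
    | mem y hy => obtain ⟨l, rfl⟩ := hy; exact Submodule.subset_span ⟨l, rfl⟩
    | zero => rw [map_zero]; exact zero_mem _
    | add y z _ _ hy hz => rw [map_add]; exact add_mem hy hz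
    | smul r y _ hy =>
      rw [map_smul]
      exact Submodule.smul_mem _ _ hy
  | smul a x hx => exact Submodule.smul_mem _ a hx
  | add x y hx hy => exact add_mem hx hy

theorem span_of_surjective {A : Type u} [CommRing A] {M N : Type u} [AddCommGroup M] [Module A M] [AddCommGroup N]
    [Module A N] (f : M →+ N) (hlin : ∀ (r : A) (x : M), f (r • x) = r • f x) (hf : Function.Surjective f)
    {L : Type u} (m : L → M) (hm : Submodule.span A (Set.range m) = ⊤) :
    Submodule.span A (Set.range fun l => f (m l)) = ⊤ := by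
  refine eq_top_iff.mpr fun z hz' => ?_
  clear hz'
  obtain ⟨x, rfl⟩ := hf z
  have hx : x ∈ Submodule.span A (Set.range m) := hm ▸ Submodule.mem_top
  induction hx using Submodule.span_induction with
  | mem y hy => obtain ⟨l, rfl⟩ := hy; exact Submodule.subset_span ⟨l, rfl⟩
  | zero => rw [map_zero]; exact zero_mem _
  | add y z _ _ hy hz => rw [map_add]; exact add_mem hy hz
  | smul r y _ hy => rw [hlin]; exact Submodule.smul_mem _ _ hy

variable {X Xj Xi : Scheme.{u}}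

/-- The core of the descent. -/
theorem exists_coh_of_relations (p : X ⟶ Xj) (u : Xj ⟶ Xi) [IsAffineHom p] [IsAffineHom u] (F : X.Modules)
    [Coh.IsQCoh F] (G₀ : Xi.Modules) [Coh.IsQCoh G₀] (hG₀ : CohB1.IsFT G₀)
    (θ : G₀ ⟶ (Scheme.Modules.pushforward (p ≫ u)).obj F) {K : Type u} (U : K → Xi.Opens)
    (hU : ∀ k, IsAffineOpen (U k)) (hcov : ⨆ k, (p ≫ u) ⁻¹ᵁ U k = ⊤)
    (L : K → Type u) [∀ k, Fintype (L k)] (m : ∀ k, L k → Γ(G₀, U k))
    (hm : ∀ k, Submodule.span Γ(Xi, U k) (Set.range (m k)) = ⊤)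
    (hgen : ∀ k, Submodule.span Γ(X, p ⁻¹ᵁ (u ⁻¹ᵁ U k))
      (Set.range fun l => (show Γ(F, p ⁻¹ᵁ (u ⁻¹ᵁ U k)) from θ.app (U k) (m k l))) = ⊤)
    (hrel : ∀ k, ∃ (T : Type u) (_ : Fintype T) (a : T → L k → Γ(Xj, u ⁻¹ᵁ U k)),
      (∀ t, ∑ l, p.app (u ⁻¹ᵁ U k) (a t l) • (show Γ(F, p ⁻¹ᵁ (u ⁻¹ᵁ U k)) from θ.app (U k) (m k l)) = 0) ∧
      ∀ b : L k → Γ(X, p ⁻¹ᵁ (u ⁻¹ᵁ U k)),
        ∑ l, b l • (show Γ(F, p ⁻¹ᵁ (u ⁻¹ᵁ U k)) from θ.app (U k) (m k l)) = 0 →
          ∃ c : T → Γ(X, p ⁻¹ᵁ (u ⁻¹ᵁ U k)), b = fun l => ∑ t, c t * p.app (u ⁻¹ᵁ U k) (a t l)) :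
    ∃ G : Xj.Modules, Coh.IsQCoh G ∧ CohB1.IsFT G ∧ Nonempty ((Scheme.Modules.pullback p).obj G ≅ F) := by
  let θ' : G₀ ⟶ (Scheme.Modules.pushforward u).obj ((Scheme.Modules.pushforward p).obj F) :=
    θ ≫ (Scheme.Modules.pushforwardComp p u).inv.app F
  let adju := Scheme.Modules.pullbackPushforwardAdjunction u
  let adjp := Scheme.Modules.pullbackPushforwardAdjunction p
  let θj := (adju.homEquiv _ _).symm θ'
  haveI := KFlatLib.isQCoh_pullback u G₀
  haveI := QCohLib.isQCoh_pushforward p F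
  let q := Abelian.factorThruImage θj
  let ι := Abelian.image.ι θj
  haveI hGq : Coh.IsQCoh (Abelian.image θj) := QCohLib.isQCoh_image θj
  let β := (adjp.homEquiv (Abelian.image θj) F).symm ι
  have hθj : ∀ k l, θj.app (u ⁻¹ᵁ U k) (KFlatLib.puSec u (m k l)) = θ.app (U k) (m k l) := by
    intro k l
    have e := (adju.homEquiv _ _).apply_symm_apply θ'
    rw [Adjunction.homEquiv_unit] at e
    exact congr($(e).app (U k) (m k l))
  have hq : ∀ (V : Xj.Opens) (x : Γ(KFlatLib.pb u G₀, V)), ι.app V (q.app V x) = θj.app V x := fun V x =>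
    congr($(Abelian.image.fac θj).app V x)
  have hβ : ∀ (V : Xj.Opens) (x : Γ(Abelian.image θj, V)), β.app (p ⁻¹ᵁ V) (KFlatLib.puSec p x) = ι.app V x := by
    intro V x
    have e := (adjp.homEquiv _ _).apply_symm_apply ι
    rw [Adjunction.homEquiv_unit] at e
    exact congr($(e).app V x)
  have hqsurj : ∀ {W : Xi.Opens}, IsAffineOpen W → Function.Surjective (q.app (u ⁻¹ᵁ W)) := by
    intro W hW
    haveI : Coh.IsQCoh (kernel q) := QCohLib.isQCoh_kernel q
    exact QCohLib.app_surjective_of_affine (S := ShortComplex.mk (kernel.ι q) q (kernel.condition q))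
      { exact := ShortComplex.exact_kernel q } (hW.preimage u)
  refine ⟨Abelian.image θj, hGq, ?_, ?_⟩
  · refine QCohLib.isFT_of_finite fun z => ?_
    obtain ⟨W, hW, hzW, -⟩ := exists_isAffineOpen_mem_and_subset (X := Xi) (x := u z) (U := ⊤) trivial
    haveI : Module.Finite Γ(Xi, W) Γ(G₀, W) := QCohLib.finite_of_isFT hG₀ hW
    obtain ⟨n, s, hs⟩ := Module.Finite.exists_fin (R := Γ(Xi, W)) (M := Γ(G₀, W))
    refine ⟨u ⁻¹ᵁ W, hW.preimage u, hzW, ?_⟩
    have h1 : Submodule.span Γ(Xj, u ⁻¹ᵁ W) (Set.range fun l : ULift.{u} (Fin n) => KFlatLib.puSec u (s l.down)) = ⊤ :=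
      span_puSec u G₀ hW (fun l : ULift.{u} (Fin n) => s l.down) (by
        rw [← hs]; congr 1; ext x; simp)
    have h2 := span_of_surjective (q.app (u ⁻¹ᵁ W)).hom (fun r x => QCohLib.app_smul q _ r x) (hqsurj hW) _ h1
    exact ⟨Submodule.fg_def.mpr ⟨_, Set.finite_range _, h2⟩⟩
  · haveI := KFlatLib.isQCoh_pullback p (Abelian.image θj)
    have : IsIso β := by
      refine GrTildeLib.isIso_of_bijective_cover β (fun k => p ⁻¹ᵁ (u ⁻¹ᵁ U k))
        (fun k => ((hU k).preimage u).preimage p) (by rw [← hcov]; simp [Scheme.Hom.comp_preimage]) fun k => ?_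
      let w : L k → Γ(Abelian.image θj, u ⁻¹ᵁ U k) := fun l => q.app _ (KFlatLib.puSec u (m k l))
      have hw : Submodule.span Γ(Xj, u ⁻¹ᵁ U k) (Set.range w) = ⊤ :=
        span_of_surjective (q.app _).hom (fun r x => QCohLib.app_smul q _ r x) (hqsurj (hU k)) _
          (span_puSec u G₀ (hU k) (m k) (hm k))
      let t : L k → Γ(KFlatLib.pb p (Abelian.image θj), p ⁻¹ᵁ (u ⁻¹ᵁ U k)) := fun l => KFlatLib.puSec p (w l)
      have ht : Submodule.span Γ(X, p ⁻¹ᵁ (u ⁻¹ᵁ U k)) (Set.range t) = ⊤ :=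
        span_puSec p _ ((hU k).preimage u) w hw
      let s : L k → Γ(F, p ⁻¹ᵁ (u ⁻¹ᵁ U k)) := fun l => θ.app (U k) (m k l)
      let φ : Γ(KFlatLib.pb p (Abelian.image θj), p ⁻¹ᵁ (u ⁻¹ᵁ U k)) →ₗ[Γ(X, p ⁻¹ᵁ (u ⁻¹ᵁ U k))]
          Γ(F, p ⁻¹ᵁ (u ⁻¹ᵁ U k)) :=
        { toFun := β.app _
          map_add' := fun a b => map_add (β.app _).hom a b
          map_smul' := fun r x => QCohLib.app_smul β _ r x }
      have hφ : ∀ l, φ (t l) = s l := fun l => by
        show β.app _ (KFlatLib.puSec p (w l)) = s l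
        rw [hβ, hq, hθj]
      have hcomb : ∀ b : L k → Γ(X, p ⁻¹ᵁ (u ⁻¹ᵁ U k)), φ (∑ l, b l • t l) = ∑ l, b l • s l := fun b => by
        rw [map_sum]
        exact Finset.sum_congr rfl fun l _ => by rw [map_smul, hφ]
      show Function.Bijective φ
      refine ⟨(injective_iff_map_eq_zero φ).mpr fun x hx => ?_, fun y => ?_⟩
      · obtain ⟨b, rfl⟩ := (Submodule.mem_span_range_iff_exists_fun _).mp (ht ▸ Submodule.mem_top (x := x))
        rw [hcomb] at hx
        obtain ⟨T, _, a, ha, hb⟩ := hrel k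
        obtain ⟨c, rfl⟩ := hb b hx
        simp only [Finset.sum_smul, mul_smul]
        rw [Finset.sum_comm]
        refine Finset.sum_eq_zero fun τ _ => ?_
        rw [← Finset.smul_sum]
        have hz : ∑ l, a τ l • w l = 0 := by
          have hι : ι.app (u ⁻¹ᵁ U k) (∑ l, a τ l • w l) = 0 := by
            rw [map_sum]
            refine Eq.trans (Finset.sum_congr rfl fun l _ => ?_) (ha τ)
            rw [QCohLib.app_smul, hq, hθj]
            rfl
          exact QCohLib.app_injective_of_mono ι _ (hι.trans (map_zero _).symm)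
        have hadd := map_zero (((adjp.unit.app (Abelian.image θj)).app (u ⁻¹ᵁ U k)).hom)
        have hsum : ∑ l, p.app (u ⁻¹ᵁ U k) (a τ l) • t l = KFlatLib.puSec p (∑ l, a τ l • w l) := by
          refine Eq.trans ?_ (map_sum (((adjp.unit.app (Abelian.image θj)).app (u ⁻¹ᵁ U k)).hom) _ _).symm
          exact Finset.sum_congr rfl fun l _ => (KFlatLib.puSec_smul p (a τ l) (w l)).symm
        have hp0 : KFlatLib.puSec p (0 : Γ(Abelian.image θj, u ⁻¹ᵁ U k)) = 0 := hadd
        rw [hsum, hz, hp0]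
        exact smul_zero _
      · obtain ⟨b, hb⟩ := (Submodule.mem_span_range_iff_exists_fun _).mp ((hgen k) ▸ Submodule.mem_top (x := y))
        exact ⟨∑ l, b l • t l, (hcomb b).trans hb⟩
    exact ⟨asIso β⟩

end ModDescLib
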